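import Groth.Agent.H05EGA4.EtCl.Fin.Devissage
import Groth.Prelude.Def_EtLam
import Mathlib.RingTheory.Noetherian.Basic

/-!
# Morphisms of sheaves of `Λ`-modules and finite generation of cohomology
-/

set_option autoImplicit false
set_option linter.style.haveILetI false
set_option linter.unusedSectionVars false
set_option backward.isDefEq.respectTransparency false
set_option backward.isDefEq.respectTransparency.types false

universe u

open CategoryTheory CategoryTheory.Limits AlgebraicGeometry Opposite Abelian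

namespace Groth.Agent.H05EGA4.EtCl.Lam

open scoped Groth.Agent.H18Et

variable {Λ : Type} [CommRing Λ] {X Y : Scheme.{u}}

/-- A morphism of sheaves of `Λ`-modules. -/
structure LHom (L L' : EtLam.Sheaf Λ X) where
  f : L.carrier ⟶ L'.carrier
  comm : ∀ r, L.act r ≫ f = f ≫ L'.act r

/-- The identity. -/
def LHom.id (L : EtLam.Sheaf Λ X) : LHom L L :=
  ⟨𝟙 _, fun r => (Category.comp_id (L.act r : L.carrier ⟶ L.carrier)).trans (Category.id_comp _).symm⟩

/-- Composition. -/
def LHom.comp {A B C : EtLam.Sheaf Λ X} (φ : LHom A B) (ψ : LHom B C) : LHom A C :=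
  ⟨φ.f ≫ ψ.f, fun r => by
    rw [← Category.assoc, φ.comm, Category.assoc, ψ.comm, Category.assoc]⟩

/-- An isomorphism of sheaves of `Λ`-modules. -/
structure LIso (L L' : EtLam.Sheaf Λ X) where
  e : L.carrier ≅ L'.carrier
  comm : ∀ r, L.act r ≫ e.hom = e.hom ≫ L'.act r

/-- The morphism of an isomorphism. -/
def LIso.hom {L L' : EtLam.Sheaf Λ X} (φ : LIso L L') : LHom L L' := ⟨φ.e.hom, φ.comm⟩

/-- The inverse isomorphism. -/
def LIso.symm {L L' : EtLam.Sheaf Λ X} (φ : LIso L L') : LIso L' L :=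
  ⟨φ.e.symm, fun r => by
    rw [← cancel_epi φ.e.hom, ← Category.assoc, ← φ.comm, Category.assoc, Iso.symm_hom, Iso.hom_inv_id_assoc,
      Iso.hom_inv_id]
    exact Category.comp_id _⟩

/-- The identity isomorphism. -/
def LIso.refl (L : EtLam.Sheaf Λ X) : LIso L L := ⟨Iso.refl _, (LHom.id L).comm⟩

/-- Composition of isomorphisms. -/
def LIso.trans {A B C : EtLam.Sheaf Λ X} (φ : LIso A B) (ψ : LIso B C) : LIso A C :=
  ⟨φ.e ≪≫ ψ.e, (φ.hom.comp ψ.hom).comm⟩

/-- The image under an additive functor. -/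
noncomputable def mapL (G : EtCoh.Ab X ⥤ EtCoh.Ab Y) [G.Additive] (L : EtLam.Sheaf Λ X) : EtLam.Sheaf Λ Y :=
  ⟨G.obj L.carrier, EtLam.mapAct G L.act⟩

/-- The image of a morphism. -/
def LHom.map (G : EtCoh.Ab X ⥤ EtCoh.Ab Y) [G.Additive] {L L' : EtLam.Sheaf Λ X} (φ : LHom L L') :
    LHom (mapL G L) (mapL G L') :=
  ⟨G.map φ.f, fun r => by
    show G.map (L.act r) ≫ G.map φ.f = G.map φ.f ≫ G.map (L'.act r)
    rw [← G.map_comp, φ.comm, G.map_comp]⟩

/-- The image of an isomorphism. -/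
def LIso.map (G : EtCoh.Ab X ⥤ EtCoh.Ab Y) [G.Additive] {L L' : EtLam.Sheaf Λ X} (φ : LIso L L') :
    LIso (mapL G L) (mapL G L') :=
  ⟨G.mapIso φ.e, (φ.hom.map G).comm⟩

/-- The component of a natural transformation. -/
def LHom.ofNat {G G' : EtCoh.Ab X ⥤ EtCoh.Ab Y} [G.Additive] [G'.Additive] (η : G ⟶ G') (L : EtLam.Sheaf Λ X) :
    LHom (mapL G L) (mapL G' L) :=
  ⟨η.app L.carrier, fun r => η.naturality (L.act r)⟩

/-- The component of a natural isomorphism. -/
def LIso.ofNat {G G' : EtCoh.Ab X ⥤ EtCoh.Ab Y} [G.Additive] [G'.Additive] (η : G ≅ G') (L : EtLam.Sheaf Λ X) :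
    LIso (mapL G L) (mapL G' L) :=
  ⟨η.app L.carrier, fun r => η.hom.naturality (L.act r)⟩

/-- An endofunctor component: a natural transformation out of the identity. -/
def LHom.ofUnit {G : EtCoh.Ab X ⥤ EtCoh.Ab X} [G.Additive] (η : 𝟭 _ ⟶ G) (L : EtLam.Sheaf Λ X) :
    LHom L (mapL G L) :=
  ⟨η.app L.carrier, fun r => η.naturality (L.act r)⟩

/-- An endofunctor component: a natural transformation into the identity. -/
def LHom.ofCounit {G : EtCoh.Ab X ⥤ EtCoh.Ab X} [G.Additive] (η : G ⟶ 𝟭 _) (L : EtLam.Sheaf Λ X) :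
    LHom (mapL G L) L :=
  ⟨η.app L.carrier, fun r => η.naturality (L.act r)⟩

/-- A retract. -/
structure LRetract (A B : EtLam.Sheaf Λ X) where
  i : LHom A B
  r : LHom B A
  fac : i.f ≫ r.f = 𝟙 _

/-- Composition of retracts. -/
def LRetract.trans {A B C : EtLam.Sheaf Λ X} (φ : LRetract A B) (ψ : LRetract B C) : LRetract A C :=
  ⟨φ.i.comp ψ.i, ψ.r.comp φ.r, by
    show (φ.i.f ≫ ψ.i.f) ≫ ψ.r.f ≫ φ.r.f = _
    rw [Category.assoc, reassoc_of% ψ.fac, φ.fac]⟩

/-- An isomorphism is a retract. -/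
def LIso.retract {A B : EtLam.Sheaf Λ X} (φ : LIso A B) : LRetract A B :=
  ⟨φ.hom, φ.symm.hom, φ.e.hom_inv_id⟩

/-- The image of a retract. -/
def LRetract.map (G : EtCoh.Ab X ⥤ EtCoh.Ab Y) [G.Additive] {A B : EtLam.Sheaf Λ X} (φ : LRetract A B) :
    LRetract (mapL G A) (mapL G B) :=
  ⟨φ.i.map G, φ.r.map G, by
    show G.map φ.i.f ≫ G.map φ.r.f = _
    rw [← G.map_comp, φ.fac]
    exact G.map_id _⟩

/-- The linear map induced on cohomology. -/
noncomputable def hmap {L L' : EtLam.Sheaf Λ X} (φ : LHom L L') (n : ℕ) :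
    EtCoh.H X L.carrier n →ₗ[Λ] EtCoh.H X L'.carrier n where
  toFun := Sheaf.H.map φ.f n
  map_add' := map_add _
  map_smul' r x := by
    show Sheaf.H.map φ.f n (Sheaf.H.map (L.act r) n x) = Sheaf.H.map (L'.act r) n (Sheaf.H.map φ.f n x)
    rw [← Sheaf.H.map_comp_apply, ← Sheaf.H.map_comp_apply, φ.comm]

/-- Finite generation of cohomology. -/
abbrev Fg (L : EtLam.Sheaf Λ X) (n : ℕ) : Prop := Module.Finite Λ (EtCoh.H X L.carrier n)

theorem Fg.of_retract [IsNoetherianRing Λ] {A B : EtLam.Sheaf Λ X} (φ : LRetract A B) {n : ℕ} (h : Fg B n) :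
    Fg A n :=
  haveI : Module.Finite Λ (EtCoh.H X B.carrier n) := h
  Module.Finite.of_surjective (hmap φ.r n) fun a => ⟨hmap φ.i n a, by
    show Sheaf.H.map φ.r.f n (Sheaf.H.map φ.i.f n a) = a
    rw [← Sheaf.H.map_comp_apply, φ.fac, Sheaf.H.map_id_apply]⟩

theorem Fg.of_iso [IsNoetherianRing Λ] {A B : EtLam.Sheaf Λ X} (φ : LIso A B) {n : ℕ} (h : Fg B n) : Fg A n :=
  h.of_retract φ.retract

variable [IsNoetherianRing Λ]

theorem finite_of_exact {A B C : Type*} [AddCommGroup A] [AddCommGroup B] [AddCommGroup C] [Module Λ A] [Module Λ B]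
    [Module Λ C] (f : A →ₗ[Λ] B) (g : B →ₗ[Λ] C) (hex : ∀ b, g b = 0 → ∃ a, f a = b) [Module.Finite Λ A]
    [Module.Finite Λ C] : Module.Finite Λ B := by
  haveI : Module.Finite Λ (LinearMap.range g) := Module.Finite.of_injective _ (Submodule.injective_subtype _)
  refine ⟨Submodule.fg_of_fg_map_of_fg_inf_ker g ?_ ?_⟩
  · rw [Submodule.map_top]
    exact Module.Finite.iff_fg.1 inferInstance
  · have hle : LinearMap.ker g ≤ LinearMap.range f := fun b hb => hex b hb
    rw [top_inf_eq]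
    have hfg : (LinearMap.range f).FG := Module.Finite.iff_fg.1 inferInstance
    haveI : IsNoetherian Λ (LinearMap.range f) := isNoetherian_of_fg_of_noetherian _ hfg
    exact isNoetherian_submodule.1 inferInstance _ hle

section SES

variable {A B C : EtLam.Sheaf Λ X} (i : LHom A B) (p : LHom B C) (w : i.f ≫ p.f = 0)
  (hS : (ShortComplex.mk i.f p.f w).ShortExact)

include hS in
theorem Fg.mid {n : ℕ} (hA : Fg A n) (hC : Fg C n) : Fg B n :=
  haveI := hA; haveI := hC
  finite_of_exact (hmap i n) (hmap p n) fun b hb => Ext.covariant_sequence_exact₂ _ hS b hb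

include hS in
theorem Fg.left {n : ℕ} (hC : Fg C n) (hB : Fg B (n + 1)) : Fg A (n + 1) := by
  haveI := hC; haveI := hB
  let δ : EtCoh.H X C.carrier n →ₗ[Λ] EtCoh.H X A.carrier (n + 1) :=
    { toFun := fun x => Ext.comp x hS.extClass rfl
      map_add' := fun x y => (hS.extClass.postcomp _ rfl).map_add x y
      map_smul' := fun r x => by
        show Ext.comp (Sheaf.H.map (C.act r) n x) hS.extClass rfl =
          Sheaf.H.map (A.act r) (n + 1) (Ext.comp x hS.extClass rfl)
        have h := ShortComplex.ShortExact.extClass_naturality hS hS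
          (ShortComplex.homMk (S₁ := ShortComplex.mk i.f p.f w) (S₂ := ShortComplex.mk i.f p.f w) (A.act r) (B.act r)
            (C.act r) (i.comm r) (p.comm r))
        rw [Sheaf.H.map_apply, Sheaf.H.map_apply,
          Ext.comp_assoc x (Ext.mk₀ (C.act r)) hS.extClass (add_zero n) (zero_add 1) (by omega),
          Ext.comp_assoc x hS.extClass (Ext.mk₀ (A.act r)) rfl (add_zero 1) (by omega)]
        exact congrArg (fun z => Ext.comp x z rfl) h.symm }
  exact finite_of_exact δ (hmap i (n + 1)) fun b hb => Ext.covariant_sequence_exact₁ _ hS b hb rfl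

end SES

theorem Fg.zero_of_mono {A B : EtLam.Sheaf Λ X} (i : LHom A B) [Mono i.f] (h : Fg B 0) : Fg A 0 :=
  haveI := h
  Module.Finite.of_injective (hmap i 0) (Fin.injective_H_zero_of_mono i.f)

/-- The direct image along an integral morphism. -/
theorem Fg.push {T : Scheme.{u}} (a : T ⟶ X) [IsIntegralHom a] [(EtCoh.push a).Additive] (L : EtLam.Sheaf Λ T)
    {n : ℕ} (h : Fg L n) : Fg (mapL (EtCoh.push a) L) n := by
  haveI := h
  haveI := H15Site.IntDesc.preservesFiniteColimits_push a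
  haveI : (EtCoh.push a).IsRightAdjoint := ⟨_, ⟨EtCoh.pullPushAdj a⟩⟩
  haveI : PreservesFiniteLimits (EtCoh.push a) := inferInstance
  let θ : EtCoh.H T L.carrier n →ₗ[Λ] EtCoh.H X (mapL (EtCoh.push a) L).carrier n :=
    { toFun := H10Coh.extMap (EtCoh.push a) (H15Site.IntDesc.unitPush a) L.carrier n
      map_add' := map_add _
      map_smul' := fun r x =>
        H10Coh.extMap_naturality (EtCoh.push a) (H15Site.IntDesc.unitPush a) (L.act r) n x }
  refine Module.Finite.of_surjective θ (Function.Bijective.surjective ?_)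
  exact H10Coh.extMap_bijective (EtCoh.push a) (H15Site.IntDesc.unitPush a) (H15Site.IntDesc.bijective_unitPush a)
    (fun J _ m => by
      haveI := H15Site.IntDesc.injective_push a J
      exact ⟨fun x y => by rw [Ext.eq_zero_of_injective x, Ext.eq_zero_of_injective y]⟩) n L.carrier

end Groth.Agent.H05EGA4.EtCl.Lam
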