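import Groth.Agent.H05EGA4.EtCl.Lam.Shriek
import Groth.Agent.H18Et.LC.Basic
import Groth.Agent.H18Et.LC.Pull

/-!
# Constant charts of constructible sheaves of `Λ`-modules
-/

set_option autoImplicit false
set_option linter.style.haveILetI false
set_option linter.unusedSectionVars false
set_option linter.overlappingInstances false
set_option backward.isDefEq.respectTransparency false
set_option backward.isDefEq.respectTransparency.types false

universe u

open CategoryTheory CategoryTheory.Limits AlgebraicGeometry Opposite TopologicalSpace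

namespace Groth.Agent.H05EGA4.EtCl.Lam

open scoped Groth.Agent.H18Et

variable {Λ : Type} [CommRing Λ] {X : Scheme.{u}}

attribute [local instance] additive_pull Fin.additive_push

/-- The distinguished map of a trivialization is constant. -/
theorem isConstOn_of_overIso {F : EtCoh.Ab X} {U : X.Etale} {M : AddCommGrpCat.{u + 1}}
    (e : F.over U ≅ (constantSheaf (X.smallEtaleTopology.over U) AddCommGrpCat.{u + 1}).obj M) :
    H18Et.LC.IsConstOn F U ((toSheafify (X.smallEtaleTopology.over U) ((Functor.const (Over U)ᵒᵖ).obj M)).app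
      (op (Over.mk (𝟙 U))) ≫ e.inv.hom.app (op (Over.mk (𝟙 U)))) := by
  let J := X.smallEtaleTopology.over U
  let P : (Over U)ᵒᵖ ⥤ AddCommGrpCat.{u + 1} := (Functor.const _).obj M
  let c : M ⟶ F.obj.obj (op U) :=
    (toSheafify J P).app (op (Over.mk (𝟙 U))) ≫ e.inv.hom.app (op (Over.mk (𝟙 U)))
  have key : ∀ {V : X.Etale} (g : V ⟶ U),
      c ≫ F.obj.map g.op = (toSheafify J P).app (op (Over.mk g)) ≫ e.inv.hom.app (op (Over.mk g)) := by
    intro V g
    let k : Over.mk g ⟶ Over.mk (𝟙 U) := Over.homMk g (Category.comp_id g)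
    have := (toSheafify J P ≫ e.inv.hom).naturality k.op
    exact this.symm.trans (Category.id_comp _)
  show H18Et.LC.IsConstOn F U c
  refine H18Et.LC.isConstOn_of_bijective fun Ω _ _ ξ x => ⟨fun m m' hm => ?_, fun p => ?_⟩
  · obtain ⟨V, g, y, -, e'⟩ := (H18Et.germ_eq_iff ξ F U x _ _).1 hm
    rw [← ConcreteCategory.comp_apply, ← ConcreteCategory.comp_apply, key g] at e'
    simp only [ConcreteCategory.comp_apply] at e'
    have h1 := (ConcreteCategory.bijective_of_isIso (e.inv.hom.app (op (Over.mk g)))).1 e'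
    have h2 := Presheaf.equalizerSieve_mem J (toSheafify J P) _ _ h1
    rw [GrothendieckTopology.mem_over_iff] at h2
    obtain ⟨W, k, z, hk, -⟩ := H18Et.LC.exists_of_covering h2 y
    rw [Sieve.overEquiv_iff] at hk
    exact ((ConcreteCategory.id_apply m).symm.trans hk).trans (ConcreteCategory.id_apply m')
  · obtain ⟨V, y, s, rfl⟩ := H18Et.germ_surjective ξ F p
    obtain ⟨⟨Z, z⟩, ⟨a, ha⟩, ⟨b, hb⟩, -⟩ := IsCofilteredOrEmpty.cone_objs
      (C := (Scheme.pointSmallEtale ξ).fiber.Elements) ⟨V, y⟩ ⟨U, x⟩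
    dsimp at a b ha hb
    have h2 := Presheaf.imageSieve_mem J (toSheafify J P) (U := op (Over.mk b))
      (e.hom.hom.app (op (Over.mk b)) (F.obj.map a.op s))
    rw [GrothendieckTopology.mem_over_iff] at h2
    obtain ⟨W, k, w, hk, hw⟩ := H18Et.LC.exists_of_covering h2 z
    rw [Sieve.overEquiv_iff] at hk
    obtain ⟨m, hm⟩ := hk
    refine ⟨m, ?_⟩
    dsimp only
    rw [← hb, ← ha, ← hw]
    let Φ := Scheme.pointSmallEtale ξ
    refine (((Φ.toPresheafFiber_w_apply b _ F.obj (c m)).symm.trans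
      (Φ.toPresheafFiber_w_apply k w F.obj _).symm).trans (Eq.trans (congrArg _ ?_)
        ((Φ.toPresheafFiber_w_apply k w F.obj _).trans (Φ.toPresheafFiber_w_apply a _ F.obj s))))
    have h3 := congrArg (e.inv.hom.app (op (Over.mk (k ≫ b)))) hm
    have h4 := ConcreteCategory.congr_hom (key (k ≫ b)) m
    have h5 : e.inv.hom.app (op (Over.mk b)) (e.hom.hom.app (op (Over.mk b)) (F.obj.map a.op s)) =
        F.obj.map a.op s := by
      rw [← ConcreteCategory.comp_apply, ← NatTrans.comp_app, ← ObjectProperty.FullSubcategory.comp_hom,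
        e.hom_inv_id]
      exact ConcreteCategory.id_apply _
    refine ((ConcreteCategory.comp_apply (F.obj.map b.op) (F.obj.map k.op) (c m)).symm.trans
      (congrArg (fun q => q (c m)) (congrArg ConcreteCategory.hom
        (F.obj.map_comp b.op k.op)).symm)).trans ?_
    refine ((ConcreteCategory.comp_apply _ _ _).symm.trans (h4.trans
      ((ConcreteCategory.comp_apply _ _ _).trans (h3.trans ?_))))
    refine Eq.trans ?_ (congrArg (F.obj.map k.op) h5)
    exact NatTrans.naturality_apply e.inv.hom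
      (Over.homMk k rfl : Over.mk (k ≫ b) ⟶ Over.mk b).op _

/-- A trivialization of a sheaf of `Λ`-modules near a point. -/
def Chart (L : EtLam.Sheaf Λ X) (x : X) : Prop :=
  ∃ (T V : Scheme.{u}) (g : T ⟶ X) (v : V ⟶ T) (_ : IsImmersion g) (_ : Etale v) (y : V) (M : Type) (_ : AddCommGroup M)
    (_ : Module Λ M) (_ : Module.Finite Λ M),
      g (v y) = x ∧ Nonempty (LIso (mapL (EtCoh.pull (v ≫ g)) L) (constL (Λ := Λ) V M))

/-- The multiplication on the value of a constant sheaf. -/
noncomputable def smulUp (M : Type) [AddCommGroup M] [Module Λ M] (r : Λ) :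
    AddCommGrpCat.of (ULift.{u + 1} M) ⟶ AddCommGrpCat.of (ULift.{u + 1} M) :=
  AddCommGrpCat.ofHom (DistribSMul.toAddMonoidHom (ULift.{u + 1} M) r)

theorem nonempty_constL_iso {V : Scheme.{u}} (L : EtLam.Sheaf Λ V) (M : Type) [AddCommGroup M] [Module Λ M]
    (φ : AddCommGrpCat.of (ULift.{u + 1} M) ⟶ L.carrier.obj.obj (op (EtCoh.top V)))
    (hφ : H18Et.ConstSheaf.IsConstant L.carrier fun m => φ m)
    (hact : ∀ r, φ ≫ (L.act r).hom.app (op (EtCoh.top V)) = smulUp M r ≫ φ) :
    Nonempty (LIso (constL (Λ := Λ) V M) L) := by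
  haveI := H18Et.ConstSheaf.isIso_homConst L.carrier φ hφ
  refine ⟨⟨asIso (H18Et.ConstSheaf.homConst L.carrier φ), fun r => ?_⟩⟩
  refine H18Et.ConstSheaf.constHom_ext fun U m => ?_
  let ν := toSheafify V.smallEtaleTopology ((Functor.const V.Etaleᵒᵖ).obj (AddCommGrpCat.of (ULift.{u + 1} M)))
  have h1 := ConcreteCategory.congr_hom (congrArg (fun t => NatTrans.app t (op U))
    (toSheafify_naturality V.smallEtaleTopology ((Functor.const V.Etaleᵒᵖ).map (smulUp.{u} (Λ := Λ) M r)))) m
  have h2 : ∀ m', (H18Et.ConstSheaf.homConst L.carrier φ).hom.app (op U) (ν.app (op U) m') =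
      H18Et.ConstSheaf.rest L.carrier U (φ m') := fun m' => by
    rw [← H18Et.ConstSheaf.homConst_rest L.carrier φ U m', H18Et.ConstSheaf.rest_unitTop]
  show ((H18Et.ConstSheaf.homConst L.carrier φ).hom.app (op U)) (((constL (Λ := Λ) V M).act r).hom.app (op U) _) =
    (L.act r).hom.app (op U) ((H18Et.ConstSheaf.homConst L.carrier φ).hom.app (op U) _)
  rw [H18Et.ConstSheaf.homConst_rest, H18Et.ConstSheaf.rest_unitTop]
  refine (congrArg ((H18Et.ConstSheaf.homConst L.carrier φ).hom.app (op U)) h1.symm).trans ?_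
  refine (h2 (smulUp M r m)).trans ?_
  refine (congrArg (H18Et.ConstSheaf.rest L.carrier U) (ConcreteCategory.congr_hom (hact r) m).symm).trans ?_
  exact (NatTrans.naturality_apply (L.act r).hom ((EtCore.topIsTerminal V).from U).op (φ m)).symm

/-- A locally constant sheaf of modules is constant on the covering. -/
theorem nonempty_pull_constL {T : Scheme.{u}} (L : EtLam.Sheaf Λ T) (U : T.Etale) (M : Type) [AddCommGroup M]
    [Module Λ M] (e : EtCoh.restr L.carrier U ≅ EtPBC.constOver U M)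
    (he : ∀ r : Λ, (T.smallEtaleTopology.overPullback AddCommGrpCat.{u + 1} U).map (L.act r) ≫ e.hom =
      e.hom ≫ EtLam.constOverAct U M r) :
    Nonempty (LIso (mapL (EtCoh.pull U.hom) L) (constL (Λ := Λ) U.left M)) := by
  let V := U.left
  let u : V ⟶ T := U.hom
  haveI : Etale u := U.prop
  let J := T.smallEtaleTopology.over U
  let N := AddCommGrpCat.of (ULift.{u + 1} M)
  let c : N ⟶ L.carrier.obj.obj (op U) :=
    (toSheafify J ((Functor.const (Over U)ᵒᵖ).obj N)).app (op (Over.mk (𝟙 U))) ≫ e.inv.hom.app (op (Over.mk (𝟙 U)))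
  have hc : H18Et.LC.IsConstOn L.carrier U c := isConstOn_of_overIso e
  have hcact : ∀ r, c ≫ (L.act r).hom.app (op U) = smulUp M r ≫ c := fun r => by
    have h1 : e.inv ≫ (T.smallEtaleTopology.overPullback AddCommGrpCat.{u + 1} U).map (L.act r) =
        EtLam.constOverAct U M r ≫ e.inv := by
      rw [Iso.inv_comp_eq, ← Category.assoc, ← he r, Category.assoc, Iso.hom_inv_id, Category.comp_id]
    have h2 := congrArg (fun t => NatTrans.app t (op (Over.mk (𝟙 U))))
      (toSheafify_naturality J ((Functor.const (Over U)ᵒᵖ).map (smulUp.{u} (Λ := Λ) M r)))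
    have h3 := congrArg (fun t => t.hom.app (op (Over.mk (𝟙 U)))) h1
    refine (Category.assoc _ _ _).trans ?_
    refine (congrArg ((toSheafify J ((Functor.const (Over U)ᵒᵖ).obj N)).app (op (Over.mk (𝟙 U))) ≫ ·) h3).trans ?_
    exact ((Category.assoc _ _ _).symm.trans (congrArg (· ≫ e.inv.hom.app (op (Over.mk (𝟙 U)))) h2.symm)).trans
      (Category.assoc _ _ _)
  let F := mapL (EtCoh.pull u) L
  let η : L.carrier.obj.obj (op U) ⟶ F.carrier.obj.obj (op ((EtCoh.bc u).obj U)) :=
    ((EtCoh.pullPushAdj u).unit.app L.carrier).hom.app (op U)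
  let δ : EtCoh.top V ⟶ (EtCoh.bc u).obj U :=
    MorphismProperty.Over.homMk (pullback.lift (𝟙 V) (𝟙 V) rfl) (pullback.lift_snd _ _ _) trivial
  let φ : N ⟶ F.carrier.obj.obj (op (EtCoh.top V)) := (c ≫ η) ≫ F.carrier.obj.map δ.op
  have hφ : H18Et.LC.IsConstOn F.carrier (EtCoh.top V) φ := (H18Et.LC.IsConstOn.pull u hc).res δ
  have hconst : H18Et.ConstSheaf.IsConstant F.carrier fun m => φ m := fun Ω _ _ ξ W x =>
    (hφ.res ((EtCore.topIsTerminal V).from W)).bijective ξ x
  obtain ⟨i⟩ := nonempty_constL_iso F M φ hconst fun r => by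
    have hn : η ≫ (F.act r).hom.app (op ((EtCoh.bc u).obj U)) = (L.act r).hom.app (op U) ≫ η :=
      (congrArg (fun t => t.hom.app (op U)) ((EtCoh.pullPushAdj u).unit.naturality (L.act r))).symm
    show ((c ≫ η) ≫ F.carrier.obj.map δ.op) ≫ _ = smulUp M r ≫ (c ≫ η) ≫ F.carrier.obj.map δ.op
    rw [Category.assoc, (F.act r).hom.naturality, ← Category.assoc, Category.assoc c, hn, ← Category.assoc c,
      hcact r, Category.assoc, Category.assoc, Category.assoc]
    rfl
  exact ⟨i.symm⟩

theorem exists_chart (L : EtLam.Sheaf Λ X) (hL : EtLam.IsConstructible L) (x : X) : Chart L x := by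
  obtain ⟨U, hU, hxU, -⟩ := exists_isAffineOpen_mem_and_subset (X := X) (x := x) (U := ⊤) trivial
  obtain ⟨n, T, g, hg, -, -, hcov, hft⟩ := hL U hU
  obtain ⟨i, t, ht⟩ := Set.mem_iUnion.1 (hcov.symm ▸ hxU : x ∈ ⋃ i, Set.range (g i))
  obtain ⟨ι, Us, hUs, hM⟩ := hft i
  obtain ⟨j, y, hy⟩ := hUs t
  obtain ⟨M, iM, iL, iF, e, he⟩ := hM j
  obtain ⟨a⟩ := nonempty_pull_constL (EtLam.pullback (g i) L) (Us j) M e he
  refine ⟨T i, (Us j).left, g i, (Us j).hom, hg i, (Us j).prop, y, M, iM, iL, iF, ?_, ⟨?_⟩⟩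
  · exact (congrArg (g i) hy).trans ht
  · exact (LIso.ofNat (G := EtCoh.pull ((Us j).hom ≫ g i)) (G' := EtCoh.pull (g i) ⋙ EtCoh.pull (Us j).hom)
      (EtCore.pullComp (Us j).hom (g i)) L).trans a

end Groth.Agent.H05EGA4.EtCl.Lam
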