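import Groth.Agent.H05EGA4.EtCl.Lam.Basic
import Groth.Agent.H18Et.Coh.Colimit
import Groth.Agent.H05EGA4.EtCl.Fin.Abelian

/-!
# Constant sheaves of `Λ`-modules
-/

set_option autoImplicit false
set_option linter.style.haveILetI false
set_option linter.unusedSectionVars false
set_option backward.isDefEq.respectTransparency false
set_option backward.isDefEq.respectTransparency.types false

universe u

open CategoryTheory CategoryTheory.Limits AlgebraicGeometry Opposite Abelian

namespace Groth.Agent.H05EGA4.EtCl.Lam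

open scoped Groth.Agent.H18Et Groth.Agent.H18Et.CohColim

variable {Λ : Type} [CommRing Λ] {X : Scheme.{u}}

theorem constMap_eq {A B : Type} [AddCommGroup A] [AddCommGroup B] {f g : A →+ B} (h : ∀ a, f a = g a) :
    Fin.constMap (X := X) f = Fin.constMap g := congrArg Fin.constMap (AddMonoidHom.ext h)

theorem constMap_id (A : Type) [AddCommGroup A] :
    Fin.constMap (X := X) (AddMonoidHom.id A) = 𝟙 (EtCoh.const X A) := by
  rw [← CategoryTheory.Functor.map_id, Fin.constMap]
  congr 1

/-- `constMap` is additive. -/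
noncomputable def constMapHom (A B : Type) [AddCommGroup A] [AddCommGroup B] :
    (A →+ B) →+ (EtCoh.const X A ⟶ EtCoh.const X B) :=
  AddMonoidHom.mk' (fun f => Fin.constMap f) fun f g => by
    haveI : PreservesFiniteLimits (constantSheaf X.smallEtaleTopology AddCommGrpCat.{u + 1}) :=
      haveI : PreservesFiniteLimits (Functor.const (X.Etale)ᵒᵖ : AddCommGrpCat.{u + 1} ⥤ _) := ⟨fun _ _ _ => inferInstance⟩
      inferInstanceAs (PreservesFiniteLimits (Functor.const _ ⋙ presheafToSheaf _ _))
    haveI : (constantSheaf X.smallEtaleTopology AddCommGrpCat.{u + 1}).Additive :=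
      Functor.additive_of_preserves_binary_products _
    rw [Fin.constMap, Fin.constMap, Fin.constMap, ← Functor.map_add]
    congr 1

variable (X) in
/-- The constant sheaf of `Λ`-modules. -/
noncomputable def constL (M : Type) [AddCommGroup M] [Module Λ M] : EtLam.Sheaf Λ X where
  carrier := EtCoh.const X M
  act :=
    { toFun := fun r => Fin.constMap (DistribSMul.toAddMonoidHom M r)
      map_one' := (constMap_eq fun a => one_smul Λ a).trans (constMap_id M)
      map_mul' := fun r s => ((Fin.constMap_comp (X := X) (DistribSMul.toAddMonoidHom M s)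
        (DistribSMul.toAddMonoidHom M r)).trans (constMap_eq (g := DistribSMul.toAddMonoidHom M (r * s)) fun a => (mul_smul r s a).symm)).symm
      map_zero' := (constMap_eq (g := 0) fun a => zero_smul Λ a).trans ((constMapHom M M).map_zero)
      map_add' := fun r s => (constMap_eq (g := DistribSMul.toAddMonoidHom M r + DistribSMul.toAddMonoidHom M s)
        fun a => add_smul r s a).trans ((constMapHom M M).map_add _ _) }

variable (X) in
/-- A linear map of coefficients. -/
noncomputable def constHomL {M M' : Type} [AddCommGroup M] [Module Λ M] [AddCommGroup M'] [Module Λ M']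
    (f : M →ₗ[Λ] M') : LHom (constL (Λ := Λ) X M) (constL (Λ := Λ) X M') :=
  ⟨Fin.constMap f.toAddMonoidHom, fun r =>
    (Fin.constMap_comp (X := X) (DistribSMul.toAddMonoidHom M r) f.toAddMonoidHom).trans
      ((constMap_eq (g := (DistribSMul.toAddMonoidHom M' r).comp f.toAddMonoidHom) fun a => map_smul f r a).trans
        (Fin.constMap_comp (X := X) f.toAddMonoidHom (DistribSMul.toAddMonoidHom M' r)).symm)⟩

/-- The cocone of finitely generated subgroups. -/
noncomputable def spanFunctor (M : Type) [AddCommGroup M] : Finset M ⥤ AddCommGrpCat.{u + 1} where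
  obj s := AddCommGrpCat.of (ULift.{u + 1} (AddSubgroup.closure (s : Set M)))
  map {s t} h := AddCommGrpCat.ofHom ((AddEquiv.ulift.symm.toAddMonoidHom.comp
    (AddSubgroup.inclusion (AddSubgroup.closure_mono (Finset.coe_subset.2 h.le)))).comp AddEquiv.ulift.toAddMonoidHom)
  map_id s := by ext x; rfl
  map_comp f g := by ext x; rfl

/-- The cocone. -/
noncomputable def spanCocone (M : Type) [AddCommGroup M] : Cocone (spanFunctor.{u} M) where
  pt := AddCommGrpCat.of (ULift.{u + 1} M)
  ι :=
    { app := fun s => AddCommGrpCat.ofHom ((AddEquiv.ulift.symm.toAddMonoidHom.comp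
        (AddSubgroup.closure (s : Set M)).subtype).comp AddEquiv.ulift.toAddMonoidHom)
      naturality := fun s t h => by ext x; rfl }

theorem isColimit_spanCocone (M : Type) [AddCommGroup M] : Nonempty (IsColimit (spanCocone.{u} M)) := by
  classical
  haveI : IsFiltered (Finset M) := inferInstance
  haveI : HasColimitsOfSize.{0, 0} AddCommGrpCat.{u + 1} := hasColimitsOfSizeShrink.{0, 0, u + 1, u + 1} _
  haveI : PreservesFilteredColimitsOfSize.{0, 0} (CategoryTheory.forget AddCommGrpCat.{u + 1}) :=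
    preservesFilteredColimitsOfSize_shrink.{0, u + 1, 0, u + 1} _
  haveI : ReflectsColimitsOfShape (Finset M) (CategoryTheory.forget AddCommGrpCat.{u + 1}) :=
    reflectsColimitsOfShape_of_reflectsIsomorphisms
  refine ⟨isColimitOfReflects (CategoryTheory.forget AddCommGrpCat.{u + 1})
    (Types.FilteredColimit.isColimitOf _ _ (fun x => ?_) fun s t a b h => ?_)⟩
  · exact ⟨{(x : ULift.{u + 1} M).down}, ⟨⟨_, AddSubgroup.subset_closure (Finset.mem_singleton_self _)⟩⟩, rfl⟩
  · refine ⟨s ∪ t, homOfLE Finset.subset_union_left, homOfLE Finset.subset_union_right, ?_⟩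
    exact ULift.ext _ _ (Subtype.ext (congrArg ULift.down h))

/-- Every class with constant coefficients comes from finitely generated coefficients. -/
theorem exists_H_const_span [CompactSpace X] [QuasiSeparatedSpace X] (M : Type) [AddCommGroup M] (q : ℕ)
    (x : EtCoh.H X (EtCoh.const X M) q) : ∃ (s : Finset M)
      (y : EtCoh.H X (EtCoh.const X (AddSubgroup.closure (s : Set M))) q),
      Sheaf.H.map (Fin.constMap (AddSubgroup.closure (s : Set M)).subtype) q y = x := by
  classical
  obtain ⟨hc⟩ := isColimit_spanCocone.{u} M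
  let F := constantSheaf X.smallEtaleTopology AddCommGrpCat.{u + 1}
  haveI : PreservesFilteredColimitsOfSize.{0, 0} (CategoryTheory.forget AddCommGrpCat.{u + 1}) :=
    preservesFilteredColimitsOfSize_shrink.{0, u + 1, 0, u + 1} _
  haveI : HasColimitsOfSize.{0, 0} (EtCoh.Ab X) := hasColimitsOfSizeShrink.{0, 0, u, u} _
  haveI : AB5OfSize.{0, 0} (EtCoh.Ab X) := AB5OfSize_of_univLE.{0, 0, u + 1, u + 1} _
  haveI : F.IsLeftAdjoint := (constantSheafAdj X.smallEtaleTopology AddCommGrpCat.{u + 1} (EtCore.topIsTerminal X)).isLeftAdjoint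
  let D : Finset M ⥤ EtCoh.Ab X := spanFunctor M ⋙ F
  have hF : IsColimit (F.mapCocone (spanCocone M)) := isColimitOfPreserves F hc
  let e : colimit D ≅ EtCoh.const X M := (colimit.isColimit D).coconePointUniqueUpToIso hF
  obtain ⟨s, y, hy⟩ := (Groth.Agent.H18Et.CohColim.hSurj_hInj q D).1 (Sheaf.H.map e.inv q x)
  refine ⟨s, y, ?_⟩
  have h := congrArg (Sheaf.H.map e.hom q) hy
  rw [← Sheaf.H.map_comp_apply, ← Sheaf.H.map_comp_apply, e.inv_hom_id, Sheaf.H.map_id_apply,
    show colimit.ι D s ≫ e.hom = F.map ((spanCocone M).ι.app s) from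
      (colimit.isColimit D).comp_coconePointUniqueUpToIso_hom hF s] at h
  exact h

variable [IsNoetherianRing Λ]

theorem finite_span_prime (ℓ : ℕ) (hℓ : 0 < ℓ) {M : Type} [AddCommGroup M] (hM : ∀ x : M, ℓ • x = 0) (s : Finset M) :
    Finite (AddSubgroup.closure (s : Set M)) := by
  haveI : AddGroup.FG (AddSubgroup.closure (s : Set M)) := (AddGroup.fg_iff_addSubgroup_fg _).2 ⟨s, rfl⟩
  exact Fin.finite_of_fg_killed ℓ hℓ fun x => Subtype.ext (hM x)

theorem exists_decomp_field (K A : Type) [Field K] [Finite K] [AddCommGroup A] [Finite A] [Module K A] :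
    ∃ (n : ℕ) (p : Fin n → A →+ K) (e : Fin n → K →+ A), ∀ a, ∑ i, e i (p i a) = a :=
  let b := Module.finBasis K A
  ⟨_, fun i => (b.coord i).toAddMonoidHom, fun i => (LinearMap.toSpanSingleton K A (b i)).toAddMonoidHom,
    fun a => b.sum_repr a⟩

/-- A finite group killed by a prime splits into cyclic pieces. -/
theorem exists_decomp (ℓ : ℕ) [Fact ℓ.Prime] (A : Type) [AddCommGroup A] [Finite A] (hA : ∀ a : A, ℓ • a = 0) :
    ∃ (n : ℕ) (p : Fin n → A →+ ZMod ℓ) (e : Fin n → ZMod ℓ →+ A), ∀ a, ∑ i, e i (p i a) = a :=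
  @exists_decomp_field (ZMod ℓ) A (ZMod.instField ℓ) _ _ _ (AddCommGroup.zmodModule hA)

/-- Finite generation for constant coefficients killed by a prime. -/
theorem Fg.const_prime [CompactSpace X] [QuasiSeparatedSpace X] (ℓ : ℕ) [Fact ℓ.Prime] (q : ℕ)
    (hc : Finite (EtCoh.H X (EtCoh.const X (ZMod ℓ)) q)) (M : Type) [AddCommGroup M] [Module Λ M] [Module.Finite Λ M]
    (hM : ∀ x : M, ℓ • x = 0) : Fg (constL (Λ := Λ) X M) q := by
  classical
  have hℓ : 0 < ℓ := (Fact.out : ℓ.Prime).pos
  obtain ⟨gens, hgens⟩ := (Module.Finite.iff_fg (R := Λ) (N := (⊤ : Submodule Λ M))).1 inferInstance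
  let g : M → (ZMod ℓ →+ M) := fun m => ZMod.lift ℓ ⟨zmultiplesHom M m, by
    show (ℓ : ℤ) • m = 0
    rw [natCast_zsmul]; exact hM m⟩
  haveI : ∀ m, Finite (Set.range (Sheaf.H.map (Fin.constMap (X := X) (g m)) q)) := fun m =>
    Finite.of_surjective (fun y => ⟨_, y, rfl⟩) fun ⟨_, y, h⟩ => ⟨y, Subtype.ext h⟩
  let T : Set (EtCoh.H X (constL (Λ := Λ) X M).carrier q) :=
    ⋃ m ∈ (gens : Set M), Set.range (Sheaf.H.map (Fin.constMap (X := X) (g m)) q)
  have hTf : T.Finite := gens.finite_toSet.biUnion fun m _ => Set.toFinite _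
  let S : Submodule Λ (EtCoh.H X (constL (Λ := Λ) X M).carrier q) := Submodule.span Λ T
  suffices hS : S = ⊤ by exact ⟨hS ▸ Submodule.fg_span hTf⟩
  -- the maps of coefficients sending classes into `S`
  let G : AddSubgroup (ZMod ℓ →+ M) :=
    { carrier := {φ | ∀ y, (Sheaf.H.map (Fin.constMap (X := X) φ) q y : EtCoh.H X (constL (Λ := Λ) X M).carrier q) ∈ S}
      zero_mem' := fun y => by
        rw [show Fin.constMap (X := X) (0 : ZMod ℓ →+ M) = 0 from (constMapHom _ _).map_zero, Sheaf.H.map_apply,
          Ext.mk₀_zero, Ext.comp_zero]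
        exact S.zero_mem
      add_mem' := fun {a b} ha hb y => by
        rw [show Fin.constMap (X := X) (a + b) = Fin.constMap a + Fin.constMap b from (constMapHom _ _).map_add a b,
          Sheaf.H.map_add_apply]
        exact S.add_mem (ha y) (hb y)
      neg_mem' := fun {a} ha y => by
        have h : Fin.constMap (X := X) (-a) = -Fin.constMap a := (constMapHom _ _).map_neg a
        rw [h, Sheaf.H.map_apply, Ext.mk₀_neg, Ext.comp_neg]
        exact S.neg_mem (ha y) }
  have hG : ∀ φ : ZMod ℓ →+ M, φ ∈ G := fun φ => by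
    have key : ∀ m : M, g m ∈ G := fun m => by
      have hm : m ∈ Submodule.span Λ (gens : Set M) := hgens ▸ Submodule.mem_top
      induction hm using Submodule.span_induction with
      | mem a ha => exact fun y => Submodule.subset_span (Set.mem_biUnion ha ⟨y, rfl⟩)
      | zero =>
        rw [show g 0 = 0 from AddMonoidHom.ext fun z => by
          obtain ⟨z, rfl⟩ := ZMod.intCast_surjective z
          simp [g]]
        exact G.zero_mem
      | add a b _ _ ha hb =>
        rw [show g (a + b) = g a + g b from AddMonoidHom.ext fun z => by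
          obtain ⟨z, rfl⟩ := ZMod.intCast_surjective z
          simp [g]]
        exact G.add_mem ha hb
      | smul r a _ ha =>
        intro y
        rw [show g (r • a) = (DistribSMul.toAddMonoidHom M r).comp (g a) from AddMonoidHom.ext fun z => by
          obtain ⟨z, rfl⟩ := ZMod.intCast_surjective z
          simp [g]
          exact smul_comm _ _ _, ← Fin.constMap_comp, Sheaf.H.map_comp_apply]
        exact S.smul_mem r (ha y)
    rw [show φ = g (φ 1) from AddMonoidHom.ext fun z => by
      obtain ⟨z, rfl⟩ := ZMod.intCast_surjective z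
      simp [g, ← map_zsmul]]
    exact key _
  refine Submodule.eq_top_iff'.2 fun x => ?_
  obtain ⟨s, y, rfl⟩ := exists_H_const_span M q x
  let A := AddSubgroup.closure (s : Set M)
  haveI := finite_span_prime ℓ hℓ hM s
  obtain ⟨n, pr, e, he⟩ := exists_decomp ℓ A fun a => Subtype.ext (hM a)
  have hsum : Fin.constMap (X := X) A.subtype =
      ∑ i, Fin.constMap (X := X) (pr i) ≫ Fin.constMap (A.subtype.comp (e i)) := by
    simp only [Fin.constMap_comp]
    refine Eq.trans (constMap_eq fun a => ?_) (map_sum (constMapHom (X := X) A M) _ _)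
    rw [AddMonoidHom.finset_sum_apply]
    exact (congrArg A.subtype (he a)).symm.trans (map_sum A.subtype _ _)
  let ev : (EtCoh.const X A ⟶ EtCoh.const X M) →+ EtCoh.H X (EtCoh.const X M) q :=
    AddMonoidHom.mk' (fun f => Sheaf.H.map f q y) fun f f' => Sheaf.H.map_add_apply f f' y
  have h := congrArg ev hsum
  rw [map_sum] at h
  show ev _ ∈ S
  rw [h]
  refine S.sum_mem fun i _ => ?_
  show Sheaf.H.map _ q y ∈ S
  rw [Sheaf.H.map_comp_apply]
  exact hG _ _

/-- Finite generation for constant coefficients killed by an integer. -/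
theorem Fg.const [CompactSpace X] [QuasiSeparatedSpace X] (q : ℕ) (N : ℕ) (hN : 0 < N)
    (hc : ∀ ℓ : ℕ, ℓ.Prime → ℓ ∣ N → Finite (EtCoh.H X (EtCoh.const X (ZMod ℓ)) q))
    (M : Type) [AddCommGroup M] [Module Λ M] [Module.Finite Λ M] (hM : ∀ x : M, N • x = 0) :
    Fg (constL (Λ := Λ) X M) q := by
  induction N using Nat.strong_induction_on generalizing M with
  | _ N ih =>
  by_cases h1 : N = 1
  · subst h1
    haveI : Subsingleton M := ⟨fun a b => by
      rw [← one_nsmul a, ← one_nsmul b, hM, hM]⟩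
    have h0 := H1DFun.killedBy_const (Z := X) M 1 fun x => Subsingleton.elim _ _
    rw [one_nsmul] at h0
    haveI : Subsingleton (EtCoh.H X (constL (Λ := Λ) X M).carrier q) := Fin.subsingleton_H_of_id_eq_zero h0 q
    exact ⟨⟨∅, Subsingleton.elim _ _⟩⟩
  obtain ⟨ℓ, hℓ, ⟨N', rfl⟩⟩ := Nat.exists_prime_and_dvd h1
  haveI : Fact ℓ.Prime := ⟨hℓ⟩
  have hN' : 0 < N' := pos_of_mul_pos_right hN (Nat.zero_le _)
  let P : Submodule Λ M := LinearMap.range (ℓ • (LinearMap.id : M →ₗ[Λ] M))
  haveI : Module.Finite Λ P := Module.Finite.of_surjective _ (LinearMap.surjective_rangeRestrict _)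
  haveI : IsNoetherian Λ M := inferInstance
  have hex : Function.Exact P.subtype P.mkQ := fun y => by
    rw [Submodule.mkQ_apply, Submodule.Quotient.mk_eq_zero]
    exact ⟨fun h => ⟨⟨y, h⟩, rfl⟩, fun ⟨z, hz⟩ => hz ▸ z.2⟩
  obtain ⟨w, hS⟩ := Fin.constMap_shortExact (X := X) P.subtype.toAddMonoidHom P.mkQ.toAddMonoidHom
    Subtype.val_injective P.mkQ_surjective hex
  refine Fg.mid (constHomL X P.subtype) (constHomL X P.mkQ) w hS ?_ ?_
  · refine ih N' (lt_mul_left hN' hℓ.one_lt) hN' (fun p hp hd => hc p hp (hd.mul_left ℓ)) P ?_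
    rintro ⟨_, z, rfl⟩
    refine Subtype.ext ?_
    show N' • (ℓ • z) = 0
    rw [← mul_nsmul, hM]
  · refine Fg.const_prime ℓ q (hc ℓ hℓ (dvd_mul_right _ _)) (M ⧸ P) ?_
    rintro ⟨z⟩
    exact (Submodule.Quotient.mk_eq_zero P).2 ⟨z, rfl⟩

end Groth.Agent.H05EGA4.EtCl.Lam
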