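import Groth.Agent.H05EGA4.EtCl.Lam.Const
import Groth.Agent.H05EGA4.EtCl.Fin.Birational
import Groth.Agent.H18Et.ConstHom

/-!
# Stalks of sheaves of `Λ`-modules and sheaves supported at finitely many points
-/

set_option autoImplicit false
set_option linter.style.haveILetI false
set_option linter.unusedSectionVars false
set_option backward.isDefEq.respectTransparency false
set_option backward.isDefEq.respectTransparency.types false

universe u

open CategoryTheory CategoryTheory.Limits AlgebraicGeometry Opposite Abelian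

namespace Groth.Agent.H05EGA4.EtCl.Lam

open scoped Groth.Agent.H18Et

variable {Λ : Type} [CommRing Λ] {X : Scheme.{u}} {Ω : Type u} [Field Ω] [IsSepClosed Ω]

/-- The action on a stalk. -/
noncomputable def stalkAct (L : EtLam.Sheaf Λ X) (ξ : Spec (CommRingCat.of Ω) ⟶ X) :
    Λ →+* AddMonoid.End ((EtCoh.stalk ξ).obj L.carrier) where
  toFun r := ((EtCoh.stalk ξ).map (L.act r)).hom
  map_one' := by rw [map_one, End.one_def, (EtCoh.stalk ξ).map_id]; rfl
  map_mul' r s := by rw [map_mul, End.mul_def, (EtCoh.stalk ξ).map_comp]; rfl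
  map_zero' := by rw [map_zero, show (EtCoh.stalk ξ).map (0 : End L.carrier) = 0 from Functor.map_zero _ _ _]; rfl
  map_add' r s := by rw [map_add, show (EtCoh.stalk ξ).map (L.act r + L.act s : End L.carrier) = _ from Functor.map_add _]; rfl

/-- The module structure on a stalk. -/
@[reducible] noncomputable def stalkModule (L : EtLam.Sheaf Λ X) (ξ : Spec (CommRingCat.of Ω) ⟶ X) :
    Module Λ ((EtCoh.stalk ξ).obj L.carrier) :=
  Module.compHom _ (stalkAct L ξ)

/-- The stalk is finitely generated. -/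
def StalkFg (L : EtLam.Sheaf Λ X) (ξ : Spec (CommRingCat.of Ω) ⟶ X) : Prop :=
  @Module.Finite Λ ((EtCoh.stalk ξ).obj L.carrier) _ _ (stalkModule L ξ)

/-- The stalk at some geometric point over `y` is finitely generated. -/
def StalkFgAt (L : EtLam.Sheaf Λ X) (y : X) : Prop :=
  ∃ (K : Type u) (_ : Field K) (_ : IsSepClosed K) (ξ : Spec (CommRingCat.of K) ⟶ X), ξ default = y ∧ StalkFg L ξ

/-- The map of stalks. -/
noncomputable def stalkMap {L L' : EtLam.Sheaf Λ X} (φ : LHom L L') (ξ : Spec (CommRingCat.of Ω) ⟶ X) :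
    letI := stalkModule L ξ; letI := stalkModule L' ξ
    (EtCoh.stalk ξ).obj L.carrier →ₗ[Λ] (EtCoh.stalk ξ).obj L'.carrier :=
  letI := stalkModule L ξ; letI := stalkModule L' ξ
  { toFun := fun p => (EtCoh.stalk ξ).map φ.f p
    map_add' := fun a b => map_add ((EtCoh.stalk ξ).map φ.f).hom a b
    map_smul' := fun r p => by
      show (EtCoh.stalk ξ).map φ.f ((EtCoh.stalk ξ).map (L.act r) p) =
        (EtCoh.stalk ξ).map (L'.act r) ((EtCoh.stalk ξ).map φ.f p)
      rw [← ConcreteCategory.comp_apply, ← ConcreteCategory.comp_apply, ← Functor.map_comp, ← Functor.map_comp,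
        φ.comm] }

theorem StalkFg.of_epi {L L' : EtLam.Sheaf Λ X} (φ : LHom L L') [Epi φ.f] {ξ : Spec (CommRingCat.of Ω) ⟶ X}
    (h : StalkFg L ξ) : StalkFg L' ξ := by
  letI := stalkModule L ξ; letI := stalkModule L' ξ
  haveI : Module.Finite Λ ((EtCoh.stalk ξ).obj L.carrier) := h
  exact Module.Finite.of_surjective (stalkMap φ ξ)
    ((AddCommGrpCat.epi_iff_surjective ((EtCoh.stalk ξ).map φ.f)).1 ((H18Et.epi_iff_stalk φ.f).1 inferInstance Ω ξ))

theorem StalkFg.of_iso [IsNoetherianRing Λ] {L L' : EtLam.Sheaf Λ X} (φ : LIso L L')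
    {ξ : Spec (CommRingCat.of Ω) ⟶ X} (h : StalkFg L ξ) : StalkFg L' ξ :=
  haveI : Epi φ.hom.f := inferInstanceAs (Epi φ.e.hom)
  h.of_epi φ.hom

/-- The cokernel sheaf of `Λ`-modules. -/
noncomputable def cokerL {L L' : EtLam.Sheaf Λ X} (φ : LHom L L') : EtLam.Sheaf Λ X where
  carrier := cokernel φ.f
  act :=
    { toFun := fun r => cokernel.map φ.f φ.f (L.act r) (L'.act r) (φ.comm r).symm
      map_one' := (cancel_epi (cokernel.π φ.f)).1 (by
        rw [cokernel.map, cokernel.π_desc, map_one, End.one_def]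
        exact (Category.id_comp _).trans (Category.comp_id _).symm)
      map_mul' := fun r s => (cancel_epi (cokernel.π φ.f)).1 (by
        rw [End.mul_def, cokernel.map, cokernel.π_desc, cokernel.π_desc_assoc, Category.assoc, cokernel.π_desc,
          map_mul, End.mul_def, Category.assoc])
      map_zero' := (cancel_epi (cokernel.π φ.f)).1 (by
        rw [cokernel.map, cokernel.π_desc, map_zero, comp_zero]
        exact zero_comp)
      map_add' := fun r s => (cancel_epi (cokernel.π φ.f)).1 (by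
        rw [Preadditive.comp_add, cokernel.map, cokernel.π_desc, cokernel.π_desc, cokernel.π_desc, map_add]
        exact Preadditive.add_comp _ _ _ _ _ _) }

/-- The projection to the cokernel. -/
noncomputable def cokerπ {L L' : EtLam.Sheaf Λ X} (φ : LHom L L') : LHom L' (cokerL φ) :=
  ⟨cokernel.π φ.f, fun r => (cokernel.π_desc _ _ _).symm⟩

theorem cokerπ_shortExact {L L' : EtLam.Sheaf Λ X} (φ : LHom L L') [Mono φ.f] :
    (ShortComplex.mk φ.f (cokerπ φ).f (cokernel.condition φ.f)).ShortExact where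
  exact := ShortComplex.exact_cokernel _
  mono_f := inferInstanceAs (Mono φ.f)
  epi_g := inferInstanceAs (Epi (cokernel.π φ.f))

/-- The stalks of a constant sheaf are finitely generated. -/
theorem stalkFg_const [IsNoetherianRing Λ] (M : Type) [AddCommGroup M] [Module Λ M] [Module.Finite Λ M]
    (ξ : Spec (CommRingCat.of Ω) ⟶ X) : StalkFg (constL (Λ := Λ) X M) ξ := by
  letI := stalkModule (constL (Λ := Λ) X M) ξ
  let F := EtCoh.const X M
  have hc := H18Et.ConstSheaf.isConstant_unitTop (X := X) (AddCommGrpCat.of (ULift.{u + 1} M))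
  let U := EtCoh.top X
  let x : (Scheme.pointSmallEtale ξ).fiber.obj U := Over.homMk ξ (Category.comp_id _)
  let ν := toSheafify X.smallEtaleTopology ((Functor.const X.Etaleᵒᵖ).obj (AddCommGrpCat.of (ULift.{u + 1} M)))
  let θ : M →ₗ[Λ] (EtCoh.stalk ξ).obj (constL (Λ := Λ) X M).carrier :=
    { toFun := fun m => H18Et.germ ξ F U x (ν.app (op U) (ULift.up.{u + 1} m))
      map_add' := fun a b => (congrArg (H18Et.germ ξ F U x) (map_add (ν.app (op U)).hom (ULift.up.{u + 1} a) (ULift.up.{u + 1} b))).trans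
        (map_add (H18Et.germ ξ F U x).hom _ _)
      map_smul' := fun r m => by
        refine Eq.trans (congrArg (H18Et.germ ξ F U x) ?_)
          (H18Et.germ_naturality ξ ((constL (Λ := Λ) X M).act r) U x (ν.app (op U) (ULift.up.{u + 1} m))).symm
        exact ConcreteCategory.congr_hom (congrArg (fun t => NatTrans.app t (op U))
          (toSheafify_naturality X.smallEtaleTopology
            ((Functor.const X.Etaleᵒᵖ).map (AddCommGrpCat.ofHom.{u + 1} ((AddEquiv.ulift.{0, u + 1}.symm.toAddMonoidHom.comp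
              (DistribSMul.toAddMonoidHom M r)).comp AddEquiv.ulift.{0, u + 1}.toAddMonoidHom))))) (ULift.up.{u + 1} m) }
  refine Module.Finite.of_surjective θ fun p => ?_
  obtain ⟨⟨m⟩, hm⟩ := (hc Ω ξ U x).2 p
  refine ⟨m, Eq.trans (congrArg (H18Et.germ ξ F U x) ?_) hm⟩
  exact (H18Et.ConstSheaf.rest_unitTop _ U _).symm

variable [IsNoetherianRing Λ] {k : Type u} [Field k] [IsAlgClosed k] {Y : Scheme.{u}}
  (g : Y ⟶ Spec (CommRingCat.of k)) [LocallyOfFiniteType g] [AlgebraicGeometry.IsNoetherian Y]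

include g in
/-- Sheaves supported at finitely many closed points. -/
theorem Fg.of_supp (L : EtLam.Sheaf Λ Y) (hf : (EtPBC.supp L.carrier).Finite)
    (hcl : ∀ y ∈ EtPBC.supp L.carrier, IsClosed ({y} : Set Y))
    (hst : ∀ y ∈ EtPBC.supp L.carrier, StalkFgAt L y) (n : ℕ) : Fg L n := by
  rcases n with _ | n
  swap
  · haveI : Subsingleton (EtCoh.H Y L.carrier (n + 1)) := Fin.subsingleton_H_of_supp_closed g L.carrier hcl n
    exact ⟨⟨∅, Subsingleton.elim _ _⟩⟩
  haveI := hf.to_subtype
  choose K iK iS ξ hξ hfg using fun y : EtPBC.supp L.carrier => hst y.1 y.2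
  letI (y : EtPBC.supp L.carrier) := stalkModule L (ξ y)
  haveI : ∀ y : EtPBC.supp L.carrier, Module.Finite Λ ((EtCoh.stalk (ξ y)).obj L.carrier) := hfg
  let e := Sheaf.H.equiv₀ L.carrier (EtCore.topIsTerminal Y)
  let G := fun (y : EtPBC.supp L.carrier) (z : EtCoh.H Y L.carrier 0) =>
    fun t : (Scheme.pointSmallEtale (ξ y)).fiber.obj (EtCoh.top Y) =>
      H18Et.germ (ξ y) L.carrier (EtCoh.top Y) t (e z)
  let Θ : EtCoh.H Y L.carrier 0 →ₗ[Λ] ((y : EtPBC.supp L.carrier) →
      (Scheme.pointSmallEtale (ξ y)).fiber.obj (EtCoh.top Y) → (EtCoh.stalk (ξ y)).obj L.carrier) :=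
    { toFun := fun z y => G y z
      map_add' := fun a b => funext fun y => funext fun t =>
        (congrArg (H18Et.germ _ L.carrier _ t) (map_add e a b)).trans (map_add (H18Et.germ _ L.carrier _ t).hom _ _)
      map_smul' := fun r a => funext fun y => funext fun t =>
        (congrArg (H18Et.germ _ L.carrier _ t) (Sheaf.H.equiv₀_naturality (EtCore.topIsTerminal Y) (L.act r) a).symm).trans
          (H18Et.germ_naturality _ (L.act r) _ t _).symm }
  refine Module.Finite.of_injective Θ fun a b h => e.injective (H18Et.sect_ext' _ _ fun y => ?_)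
  by_cases hy : y ∈ EtPBC.supp L.carrier
  · exact ⟨_, iK ⟨y, hy⟩, iS ⟨y, hy⟩, ξ ⟨y, hy⟩, hξ ⟨y, hy⟩, fun z => congrFun (congrFun h ⟨y, hy⟩) z⟩
  · refine ⟨SeparableClosure (Y.residueField y), inferInstance, inferInstance, H18Et.geomPt y, H18Et.geomPt_base y, fun z => ?_⟩
    haveI := H18Et.Cons.subsingleton_stalk_of_notMem_supp L.carrier (H18Et.geomPt y)
      (by rw [H18Et.geomPt_base]; exact hy)
    exact Subsingleton.elim _ _

end Groth.Agent.H05EGA4.EtCl.Lam
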