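import Groth.Agent.H05EGA4.EtCl.Lam.Points
import Groth.Agent.H05EGA4.EtCl.DimOne
import Groth.Agent.H05EGA4.EtCl.Fin.Normalize
import Groth.Agent.S1477
import Groth.Agent.H15Site.Shriek.EtaleIso
import Groth.Agent.H15Site.Shriek.Comp
import Groth.Agent.H18Et.EtaleRestrict
import Groth.Agent.H18Et.ExtZeroOpen
import Groth.Agent.H18Et.Cons.ExtZero
import Groth.Agent.H12AlgSp.LqfDim
import Groth.Agent.H18Et.PropAB
import Groth.Prelude.Def_FinFr

/-!
# Extension by zero of constant sheaves of `Λ`-modules on curves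
-/

set_option autoImplicit false
set_option linter.style.haveILetI false
set_option linter.unusedSectionVars false
set_option linter.overlappingInstances false
set_option backward.isDefEq.respectTransparency false
set_option backward.isDefEq.respectTransparency.types false

universe u

open CategoryTheory CategoryTheory.Limits AlgebraicGeometry Opposite Abelian TopologicalSpace

namespace Groth.Agent.H05EGA4.EtCl.Lam

open scoped Groth.Agent.H18Et

variable {Λ : Type} [CommRing Λ]

theorem additive_restrAlong {U X : Scheme.{u}} (j : U ⟶ X) [Etale j] [EtShriek.JCont j] :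
    (EtShriek.restrAlong j).Additive :=
  haveI : (EtShriek.restrAlong j).IsRightAdjoint := ⟨_, ⟨EtShriek.extZeroAdj j⟩⟩
  haveI : PreservesFiniteLimits (EtShriek.restrAlong j) :=
    (EtShriek.extZeroAdj j).rightAdjoint_preservesLimits.{0, 0}.preservesFiniteLimits
  Functor.additive_of_preserves_binary_products _

theorem additive_pull {U X : Scheme.{u}} (f : U ⟶ X) : (EtCoh.pull f).Additive :=
  haveI := (EtCoh.pullPushAdj f).isLeftAdjoint
  (EtCoh.pullPushAdj f).left_adjoint_additive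

/-- Inverse images of constant sheaves of modules. -/
theorem nonempty_pullConstL {U X : Scheme.{u}} (f : U ⟶ X) [(EtCoh.pull f).Additive] (M : Type) [AddCommGroup M]
    [Module Λ M] : Nonempty (LIso (mapL (EtCoh.pull f) (constL (Λ := Λ) X M)) (constL (Λ := Λ) U M)) :=
  ⟨⟨EtCore.pullConst f M, fun r => (EtCore.pullConstIso f).hom.naturality _⟩⟩

/-- Transport along an equality of morphisms. -/
theorem nonempty_shriekCongr {X Y : Scheme.{u}} {f g : X ⟶ Y} (h : f = g) [LocallyOfFiniteType f] [LocallyOfFiniteType g] :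
    Nonempty (EtShriek.lowerShriek f ≅ EtShriek.lowerShriek g) := by
  subst h
  exact ⟨Iso.refl _⟩

theorem mem_of_dense {T : Scheme.{u}} [AlgebraicGeometry.IsNoetherian T] (V : T.Opens) (hV : Dense (V : Set T))
    {η : T} (hη : IsMaxPt η) : η ∈ V := by
  haveI := finite_isMaxPt T
  haveI : Finite {y : T // IsMaxPt y ∧ y ≠ η} :=
    Finite.of_injective (fun y => (⟨y.1, y.2.1⟩ : {y : T // IsMaxPt y}))
      fun a b h => Subtype.ext (congrArg (fun z : {y : T // IsMaxPt y} => z.1) h)
  let O : Set T := ⋂ η' : {y : T // IsMaxPt y ∧ y ≠ η}, (closure {η'.1})ᶜ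
  have hO : IsOpen O := isOpen_iInter_of_finite fun η' => isClosed_closure.isOpen_compl
  have hηO : η ∈ O := Set.mem_iInter.2 fun η' h => η'.2.2 (hη _ (specializes_iff_mem_closure.2 h))
  obtain ⟨x, hxO, hxV⟩ := hV.inter_open_nonempty O hO ⟨η, hηO⟩
  obtain ⟨η', hη', hs⟩ := exists_isMaxPt x
  by_cases he : η' = η
  · exact (he ▸ hs).mem_open V.2 hxV
  · exact absurd (specializes_iff_mem_closure.1 hs) (Set.mem_iInter.1 hxO ⟨η', hη', he⟩)

variable [IsNoetherianRing Λ] {k : Type u} [Field k] [IsAlgClosed k]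

/-- Extension by zero of the restriction to an open whose complement is finite. -/
theorem Fg.extZero_restr {T W : Scheme.{u}} (g : T ⟶ Spec (CommRingCat.of k)) [LocallyOfFiniteType g]
    [AlgebraicGeometry.IsNoetherian T] (j : W ⟶ T) [IsOpenImmersion j] [Etale j] [EtShriek.JCont j]
    [(EtShriek.restrAlong j).Additive] (hfin : (Set.range j)ᶜ.Finite)
    (hcl : ∀ y ∈ (Set.range j)ᶜ, IsClosed ({y} : Set T)) (L : EtLam.Sheaf Λ T) (q : ℕ) (hL : ∀ n, Fg L n)
    (hst : ∀ y ∈ (Set.range j)ᶜ, StalkFgAt L y) :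
    Fg (mapL (EtShriek.extZero j) (mapL (EtShriek.restrAlong j) L)) q := by
  let c : LHom (mapL (EtShriek.extZero j) (mapL (EtShriek.restrAlong j) L)) L :=
    ⟨(EtShriek.extZeroAdj j).counit.app L.carrier, fun r => (EtShriek.extZeroAdj j).counit.naturality (L.act r)⟩
  haveI : Mono c.f := (H18Et.mono_iff_stalk _).2 fun Ω _ _ ξ => by
    by_cases h : ξ default ∈ Set.range j
    · haveI := H18Et.ExtZeroStalk.isIso_stalk_counit_of_mem (j := j) ξ L.carrier h
      exact inferInstanceAs (Mono ((EtCoh.stalk ξ).map ((EtShriek.extZeroAdj j).counit.app L.carrier)))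
    · exact IsZero.mono (H18Et.ExtZeroStalk.isZero_stalk_extZero_of_notMem j ξ _ h) _
  have hsupp : EtPBC.supp (cokerL c).carrier ⊆ (Set.range j)ᶜ := by
    rintro y ⟨Ω, _, _, ξ, hξ, hne⟩ hy
    refine hne ?_
    have hb : ξ default = y := Set.mem_singleton_iff.mp (hξ ▸ Set.mem_range_self (default : Spec (CommRingCat.of Ω)))
    haveI := H18Et.ExtZeroStalk.isIso_stalk_counit_of_mem (j := j) ξ L.carrier (hb ▸ hy)
    haveI : Epi ((EtCoh.stalk ξ).map c.f) :=
      inferInstanceAs (Epi ((EtCoh.stalk ξ).map ((EtShriek.extZeroAdj j).counit.app L.carrier)))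
    haveI : Epi ((EtCoh.stalk ξ).map (cokernel.π c.f)) := (H18Et.epi_iff_stalk (cokernel.π c.f)).1 inferInstance Ω ξ
    refine IsZero.of_epi_eq_zero ((EtCoh.stalk ξ).map (cokernel.π c.f)) ?_
    rw [← cancel_epi ((EtCoh.stalk ξ).map c.f), ← Functor.map_comp, cokernel.condition, Functor.map_zero, comp_zero]
  haveI : Epi (cokerπ c).f := inferInstanceAs (Epi (cokernel.π c.f))
  have hQ : ∀ n, Fg (cokerL c) n := fun n => Fg.of_supp g _ (hfin.subset hsupp) (fun y hy => hcl y (hsupp hy))
    (fun y hy => by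
      obtain ⟨K, iK, iS, ξ, hξ, h⟩ := hst y (hsupp hy)
      exact ⟨K, iK, iS, ξ, hξ, h.of_epi (cokerπ c)⟩) n
  rcases q with _ | q
  · exact Fg.zero_of_mono c (hL 0)
  · exact Fg.left c (cokerπ c) _ (cokerπ_shortExact c) (hQ q) (hL (q + 1))

/-- Extension by zero of the direct image of a constant sheaf along a finite etale map to an open. -/
theorem Fg.extZero_push_const {X : Scheme.{u}} (f : X ⟶ Spec (CommRingCat.of k)) [LocallyOfFiniteType f]
    [AlgebraicGeometry.IsNoetherian X] (hdim : topologicalKrullDim X ≤ 1) (O : X.Opens) [Etale O.ι]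
    [EtShriek.JCont O.ι] {W : Scheme.{u}} (s : W ⟶ O) [IsFinite s] [Etale s] [(EtCoh.push s).Additive]
    (M : Type) [AddCommGroup M] [Module Λ M] [Module.Finite Λ M]
    (hM : ∀ (T : Scheme.{u}) (π : T ⟶ X), IsFinite π → ∀ q, Fg (constL (Λ := Λ) T M) q) (q : ℕ) :
    Fg (mapL (EtShriek.extZero O.ι) (mapL (EtCoh.push s) (constL (Λ := Λ) W M))) q := by
  haveI : Etale (s ≫ O.ι) := MorphismProperty.comp_mem _ s O.ι inferInstance inferInstance
  haveI : QuasiCompact O.ι := inferInstance
  haveI := Groth.Agent.H18Et.locallyQuasiFinite_of_etale (s ≫ O.ι)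
  haveI : IsSeparated (s ≫ O.ι) := inferInstance
  haveI : QuasiCompact (s ≫ O.ι) := inferInstance
  obtain ⟨T₀, j₀, π₀, hj₀, hjqc, hπ₀, -, hfac⟩ := S1477.result (s ≫ O.ι)
  haveI : IsFinite (j₀.imageι ≫ π₀) := inferInstance
  let T := j₀.image
  let π : T ⟶ X := j₀.imageι ≫ π₀
  let j : W ⟶ T := j₀.toImage
  haveI : IsFinite π := ‹IsFinite (j₀.imageι ≫ π₀)›
  haveI : AlgebraicGeometry.IsNoetherian T := Dev.isNoetherian_of_finite π
  have hjπ : j ≫ π = s ≫ O.ι := by
    show j₀.toImage ≫ j₀.imageι ≫ π₀ = _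
    rw [Scheme.Hom.toImage_imageι_assoc, hfac]
  haveI : IsOpenImmersion j := inferInstanceAs (IsOpenImmersion j₀.toImage)
  haveI : Etale (j ≫ π) := hjπ ▸ ‹Etale (s ≫ O.ι)›
  haveI := Groth.Agent.H18Et.jCont j
  haveI := additive_restrAlong j
  haveI := additive_pull j
  haveI := Fin.additive_push π
  -- the cohomology on the model
  have hdT : topologicalKrullDim T ≤ 1 := (Groth.Agent.H12AlgSp.topologicalKrullDim_le_of_lqf π).trans hdim
  have hd : Dense (Set.range j) := j₀.toImage.denseRange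
  have hcl : ∀ y ∈ (Set.range j)ᶜ, IsClosed ({y} : Set T) := fun y hy =>
    isClosed_of_dim_le_one hdT fun hmax => hy (mem_of_dense j.opensRange hd hmax)
  have hfin : (Set.range j)ᶜ.Finite :=
    Fin.finite_closed_points j.isOpenEmbedding.isOpen_range.isClosed_compl hcl
  have hT : Fg (mapL (EtShriek.extZero j) (constL (Λ := Λ) W M)) q := by
    obtain ⟨p⟩ := nonempty_pullConstL (Λ := Λ) j M
    have e : LIso (mapL (EtShriek.restrAlong j) (constL (Λ := Λ) T M)) (constL (Λ := Λ) W M) :=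
      (LIso.ofNat (G := EtCoh.pull j) (G' := EtShriek.restrAlong j) (H18Et.EtaleRestrict.pullIso j)
        (constL (Λ := Λ) T M)).symm.trans p
    exact Fg.of_iso (e.symm.map (EtShriek.extZero j))
      (Fg.extZero_restr (π ≫ f) j hfin hcl _ q (fun n => hM T π inferInstance n) fun y _ =>
        ⟨_, inferInstance, inferInstance, H18Et.geomPt y, H18Et.geomPt_base y, stalkFg_const M _⟩)
  -- the two descriptions of the sheaf on `X`
  haveI : IsSeparated O.ι := inferInstance
  obtain ⟨ec⟩ := nonempty_shriekCongr (f := s ≫ O.ι) (g := j ≫ π) hjπ.symm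
  let E : EtCoh.push s ⋙ EtShriek.extZero O.ι ≅ EtShriek.extZero j ⋙ EtCoh.push π :=
    Functor.isoWhiskerRight (H15Site.Shriek.shriekPushIso s).symm _ ≪≫
      Functor.isoWhiskerLeft _ (H15Site.Shriek.extZeroIso O.ι) ≪≫
      H15Site.Shriek.lowerShriekCompIso s O.ι ≪≫ ec ≪≫ (H15Site.Shriek.lowerShriekCompIso j π).symm ≪≫
      Functor.isoWhiskerRight (H15Site.Shriek.extZeroIso j).symm _ ≪≫
      Functor.isoWhiskerLeft _ (H15Site.Shriek.shriekPushIso π)
  exact Fg.of_iso (A := mapL (EtShriek.extZero O.ι) (mapL (EtCoh.push s) (constL (Λ := Λ) W M)))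
    (B := mapL (EtCoh.push π) (mapL (EtShriek.extZero j) (constL (Λ := Λ) W M)))
    (LIso.ofNat E (constL (Λ := Λ) W M)) (Fg.push π _ hT)

end Groth.Agent.H05EGA4.EtCl.Lam
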