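import Groth.Agent.H05EGA4.EtCl.Lam.Shriek
import Groth.Agent.S0651
import Groth.Agent.H15Site.HensCoh.Basic
import Groth.Agent.H1DFun.KillConst
import Groth.Agent.H18Et.BaseChange

/-!
# Sheaves of `Λ`-modules on an open of a curve split by a finite etale covering
-/

set_option autoImplicit false
set_option linter.style.haveILetI false
set_option linter.unusedSectionVars false
set_option linter.overlappingInstances false
set_option backward.isDefEq.respectTransparency false
set_option backward.isDefEq.respectTransparency.types false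

universe u

open CategoryTheory CategoryTheory.Limits AlgebraicGeometry Opposite Abelian TopologicalSpace

namespace Groth.Agent.H05EGA4.EtCl.Lam

open scoped Groth.Agent.H18Et

variable {Λ : Type} [CommRing Λ]

attribute [local instance] additive_pull Fin.additive_push

/-- The pullback of a retract of an induced sheaf. -/
def Tame (X : Scheme.{u}) {W O : Scheme.{u}} (p : W ⟶ O) (C : EtLam.Sheaf Λ O) : Prop :=
  ∃ (W' : Scheme.{u}) (r : W' ⟶ W) (_ : IsFinite r) (_ : Etale r) (M : Type) (_ : AddCommGroup M) (_ : Module Λ M)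
    (_ : Module.Finite Λ M), (∀ (T : Scheme.{u}) (π : T ⟶ X), IsFinite π → ∀ q, Fg (constL (Λ := Λ) T M) q) ∧
      Nonempty (LRetract (mapL (EtCoh.pull p) C) (mapL (EtCoh.push r) (constL (Λ := Λ) W' M)))

theorem mono_extZero_map {U X : Scheme.{u}} (j : U ⟶ X) [IsOpenImmersion j] [Etale j] [EtShriek.JCont j]
    {A B : EtCoh.Ab U} (φ : A ⟶ B) [Mono φ] : Mono ((EtShriek.extZero j).map φ) := by
  refine (H18Et.mono_iff_stalk _).2 fun Ω _ _ ξ => ?_
  by_cases h : ξ default ∈ Set.range j
  · obtain ⟨⟨v, rfl⟩⟩ := H18Et.ExtZeroStalk.nonempty_pts (j := j) h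
    haveI := (S0651.result j A).2
    haveI := (S0651.result j B).2
    haveI : Mono ((EtShriek.restrAlong j).map ((EtShriek.extZero j).map φ)) := by
      have hn : (EtShriek.restrAlong j).map ((EtShriek.extZero j).map φ) =
          inv ((EtShriek.extZeroAdj j).unit.app A) ≫ φ ≫ (EtShriek.extZeroAdj j).unit.app B := by
        rw [IsIso.eq_inv_comp]
        exact ((EtShriek.extZeroAdj j).unit.naturality φ).symm
      rw [hn]
      infer_instance
    haveI : Mono ((EtCoh.pull j).map ((EtShriek.extZero j).map φ)) := by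
      have hn : (EtCoh.pull j).map ((EtShriek.extZero j).map φ) =
          (H18Et.EtaleRestrict.pullIso j).hom.app _ ≫ (EtShriek.restrAlong j).map ((EtShriek.extZero j).map φ) ≫
            (H18Et.EtaleRestrict.pullIso j).inv.app _ := by
        refine Eq.trans ?_ (congrArg ((H18Et.EtaleRestrict.pullIso j).hom.app _ ≫ ·)
          ((H18Et.EtaleRestrict.pullIso j).inv.naturality ((EtShriek.extZero j).map φ)).symm)
        rw [← Category.assoc, Iso.hom_inv_id_app]
        exact (Category.id_comp _).symm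
      rw [hn]
      infer_instance
    haveI : Mono ((EtCoh.pull j ⋙ EtCoh.stalk v).map ((EtShriek.extZero j).map φ)) := by
      rw [Functor.comp_map]; infer_instance
    exact (MorphismProperty.monomorphisms _).arrow_mk_iso_iff
      (Arrow.isoMk ((H18Et.stalkPullIso j v).app _) ((H18Et.stalkPullIso j v).app _)
        ((H18Et.stalkPullIso j v).hom.naturality _).symm) |>.1 (MorphismProperty.monomorphisms.infer_property _)
      |> fun hm => (MorphismProperty.monomorphisms.iff _).1 hm
  · exact IsZero.mono (H18Et.ExtZeroStalk.isZero_stalk_extZero_of_notMem j ξ _ h) _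

/-- Composite direct images. -/
theorem nonempty_pushCompL {A B C : Scheme.{u}} (f : B ⟶ A) (g : C ⟶ B) (L : EtLam.Sheaf Λ C) :
    Nonempty (LIso (mapL (EtCoh.push f) (mapL (EtCoh.push g) L)) (mapL (EtCoh.push (g ≫ f)) L)) :=
  ⟨⟨(EtCoh.pushComp f g).app L.carrier, fun r => (EtCoh.pushComp f g).hom.naturality (L.act r)⟩⟩

/-- Base change for direct images of constant sheaves along finite maps. -/
theorem nonempty_baseChangeL {A B A' B' : Scheme.{u}} (f : B ⟶ A) [IsFinite f] (g : A' ⟶ A) (f' : B' ⟶ A')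
    (g' : B' ⟶ B) (h : IsPullback g' f' f g) (M : Type) [AddCommGroup M] [Module Λ M] :
    Nonempty (LIso (mapL (EtCoh.pull g) (mapL (EtCoh.push f) (constL (Λ := Λ) B M)))
      (mapL (EtCoh.push f') (constL (Λ := Λ) B' M))) := by
  haveI := H18Et.isIso_baseChange0_of_isIntegralHom f g f' g' h (constL (Λ := Λ) B M).carrier
  obtain ⟨p⟩ := nonempty_pullConstL (Λ := Λ) g' M
  let b : LIso (mapL (EtCoh.pull g) (mapL (EtCoh.push f) (constL (Λ := Λ) B M)))
      (mapL (EtCoh.push f') (mapL (EtCoh.pull g') (constL (Λ := Λ) B M))) :=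
    ⟨asIso (EtCoh.baseChange0 f g f' g' h.w (constL (Λ := Λ) B M).carrier),
      fun r => H1DFun.baseChange0_natural f g f' g' h.w ((constL (Λ := Λ) B M).act r)⟩
  exact ⟨b.trans (p.map (EtCoh.push f'))⟩

variable [IsNoetherianRing Λ] {k : Type u} [Field k] [IsAlgClosed k] {X : Scheme.{u}}
  (f : X ⟶ Spec (CommRingCat.of k)) [LocallyOfFiniteType f] [AlgebraicGeometry.IsNoetherian X]

include f in
/-- Finite generation for extensions by zero of tame sheaves. -/
theorem Fg.extZero_tame (hdim : topologicalKrullDim X ≤ 1) (O : X.Opens) [Etale O.ι] [EtShriek.JCont O.ι]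
    {W : Scheme.{u}} (p : W ⟶ O) [IsFinite p] [Etale p] [Surjective p] :
    ∀ (q : ℕ) (C : EtLam.Sheaf Λ O), Tame X p C → Fg (mapL (EtShriek.extZero O.ι) C) q := by
  intro q
  induction q using Nat.strong_induction_on with
  | _ q ih =>
  intro C t
  obtain ⟨W', r, hr, hre, M, iM, iL, iF, hgood, ⟨R⟩⟩ := t
  haveI := hr; haveI := hre
  haveI : IsFinite (r ≫ p) := inferInstance
  haveI : Etale (r ≫ p) := MorphismProperty.comp_mem _ r p inferInstance inferInstance
  haveI := H18Et.pull_preservesFiniteLimits p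
  haveI := (EtCoh.pullPushAdj p).leftAdjoint_preservesColimits
  haveI := (EtShriek.extZeroAdj O.ι).leftAdjoint_preservesColimits
  obtain ⟨ep⟩ := nonempty_pushCompL p r (constL (Λ := Λ) W' M)
  let T := mapL (EtCoh.push p) (mapL (EtCoh.pull p) C)
  let RT : LRetract T (mapL (EtCoh.push (r ≫ p)) (constL (Λ := Λ) W' M)) := (R.map (EtCoh.push p)).trans ep.retract
  have hT : ∀ n, Fg (mapL (EtShriek.extZero O.ι) T) n := fun n =>
    (Fg.extZero_push_const f hdim O (r ≫ p) M hgood n).of_retract (RT.map (EtShriek.extZero O.ι))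
  let η : LHom C T := ⟨(EtCoh.pullPushAdj p).unit.app C.carrier, fun r => (EtCoh.pullPushAdj p).unit.naturality (C.act r)⟩
  haveI : Mono η.f := H15Site.HensCoh.mono_unit p C.carrier
  let π := cokerπ η
  have hS := cokerπ_shortExact η
  have w : (η.map (EtShriek.extZero O.ι)).f ≫ (π.map (EtShriek.extZero O.ι)).f = 0 := by
    show (EtShriek.extZero O.ι).map η.f ≫ (EtShriek.extZero O.ι).map π.f = 0
    rw [← Functor.map_comp, show η.f ≫ π.f = 0 from cokernel.condition _, Functor.map_zero]
  haveI : Mono (η.map (EtShriek.extZero O.ι)).f := mono_extZero_map O.ι η.f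
  have hSe : (ShortComplex.mk _ _ w).ShortExact :=
    { exact := ShortComplex.exact_of_g_is_cokernel _
        (CokernelCofork.mapIsColimit _ (cokernelIsCokernel η.f) (EtShriek.extZero O.ι))
      mono_f := inferInstance
      epi_g := inferInstanceAs (Epi ((EtShriek.extZero O.ι).map (cokernel.π η.f))) }
  rcases q with _ | q
  · exact Fg.zero_of_mono (η.map (EtShriek.extZero O.ι)) (hT 0)
  refine Fg.left _ _ w hSe (ih q (Nat.lt_succ_self q) (cokerL η) ?_) (hT (q + 1))
  -- the cokernel is again tame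
  let P := EtCoh.pull p
  let ε : LHom (mapL P T) (mapL P C) :=
    ⟨(EtCoh.pullPushAdj p).counit.app (P.obj C.carrier), fun r => (EtCoh.pullPushAdj p).counit.naturality (P.map (C.act r))⟩
  have hεη : P.map η.f ≫ ε.f = 𝟙 _ := (EtCoh.pullPushAdj p).left_triangle_components C.carrier
  have hc := CokernelCofork.mapIsColimit _ (cokernelIsCokernel η.f) P
  let e : P.obj T.carrier ⟶ P.obj C.carrier := ε.f
  let φ : P.obj T.carrier ⟶ P.obj T.carrier := 𝟙 (P.obj T.carrier) - e ≫ P.map η.f
  have hφ : P.map η.f ≫ φ = 0 := by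
    show P.map η.f ≫ (𝟙 (P.obj T.carrier) - e ≫ P.map η.f) = 0
    rw [Preadditive.comp_sub, Category.comp_id, ← Category.assoc, show P.map η.f ≫ e = 𝟙 _ from hεη, Category.id_comp, sub_self]
  let σ := CokernelCofork.IsColimit.desc' hc φ hφ
  have hσ : P.map π.f ≫ σ.1 = φ := σ.2
  haveI : Epi (P.map π.f) := inferInstanceAs (Epi (P.map (cokernel.π η.f)))
  let sh : LHom (mapL P (cokerL η)) (mapL P T) := ⟨σ.1, fun s => by
    refine (cancel_epi (P.map π.f)).1 ?_
    show P.map π.f ≫ P.map ((cokerL η).act s) ≫ σ.1 = P.map π.f ≫ σ.1 ≫ P.map (T.act s)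
    rw [← Category.assoc, ← Functor.map_comp, ← π.comm s, Functor.map_comp, Category.assoc, hσ, ← Category.assoc, hσ]
    show P.map (T.act s) ≫ (𝟙 (P.obj T.carrier) - e ≫ P.map η.f) = (𝟙 (P.obj T.carrier) - e ≫ P.map η.f) ≫ P.map (T.act s)
    rw [Preadditive.comp_sub, Preadditive.sub_comp, Category.comp_id, Category.id_comp, Category.assoc]
    congr 1
    rw [show P.map η.f ≫ P.map (T.act s) = P.map (C.act s) ≫ P.map η.f by
      rw [← Functor.map_comp, ← Functor.map_comp, η.comm s]]
    rw [← Category.assoc, ← Category.assoc]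
    exact congrArg (· ≫ P.map η.f) (ε.comm s)⟩
  let Rc : LRetract (mapL P (cokerL η)) (mapL P T) := ⟨sh, π.map P, by
    refine (cancel_epi (P.map π.f)).1 ?_
    show P.map π.f ≫ σ.1 ≫ P.map π.f = P.map π.f ≫ 𝟙 _
    rw [← Category.assoc, hσ]
    show (𝟙 (P.obj T.carrier) - e ≫ P.map η.f) ≫ P.map π.f = _
    rw [Preadditive.sub_comp, Category.id_comp, Category.assoc, ← Functor.map_comp,
      show η.f ≫ π.f = 0 from cokernel.condition _, Functor.map_zero, comp_zero, sub_zero, Category.comp_id]⟩
  obtain ⟨eb⟩ := nonempty_baseChangeL (Λ := Λ) (r ≫ p) p (pullback.snd (r ≫ p) p) (pullback.fst (r ≫ p) p)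
    (IsPullback.of_hasPullback (r ≫ p) p) M
  exact ⟨_, pullback.snd (r ≫ p) p, inferInstance, inferInstance, M, iM, iL, iF, hgood,
    ⟨Rc.trans ((RT.map P).trans eb.retract)⟩⟩

end Groth.Agent.H05EGA4.EtCl.Lam
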